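import Mathlib
import Cfsg.Agent.Lib.CoxRw36

/-!
# Coxeter identities for the highest root of the subdiagram `D₆`
-/

set_option autoImplicit false
set_option maxRecDepth 1000000
set_option linter.all false
set_option Elab.async false

namespace Cfsg.Agent.Lib.TypeM22

open Cfsg.Agent.Lib.CoxRw36

/-- Truncation of the letters. -/
def m9 (a : ℕ) : ℕ := cond (Nat.ble a 9) a 10

/-- The adjacency of the diagram. -/
def adjN (a b : ℕ) : Bool := cond (Nat.ble a 9 && Nat.ble b 9) (Nat.testBit 357300755552490816271003161602 (a * 10 + b)) false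

/-- The conjugator. -/
def uW : List ℕ := [1, 2, 3, 4, 7, 3, 2, 1]

/-- The highest root. -/
def astW : List ℕ := uW ++ 0 :: uW.reverse

/-- The central element of `D₄`. -/
def d4W : List ℕ := [2, 4, 7, 3, 2, 4, 7, 3, 2, 4, 7, 3]

/-- The central element of `D₆`. -/
def d6W : List ℕ := [0, 1, 2, 3, 4, 7, 0, 1, 2, 3, 4, 7, 0, 1, 2, 3, 4, 7, 0, 1, 2, 3, 4, 7, 0, 1, 2, 3, 4, 7]

/-- A derivation. -/
def mca : List ℕ := [7, 9, 10, 11, 12, 13, 14, 15, 17, 6, 7, 9, 10, 11, 12, 13, 15, 16, 5, 6, 7, 9, 10, 11, 13, 14, 15, 4, 5, 6, 7, 9, 11, 12, 13, 14, 8, 3, 4, 5, 6, 8, 10, 11, 12, 13, 2, 3, 4, 6, 7, 8, 10, 11, 12, 1, 2, 4, 5, 6, 7, 8, 10, 11, 0, 2, 3, 4, 5, 6, 7, 8, 10, 9, 8, 7, 6, 5, 4, 3, 2, 1, 0]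

theorem idca : runM adjN mca (astW ++ ([0] ++ (astW.reverse ++ ([0]).reverse))) = [] := by decide +kernel

/-- A derivation. -/
def mcc : List ℕ := [15, 17, 16, 14, 15, 13, 14, 12, 13, 11, 12, 9, 11, 10, 8, 9, 6, 8, 7, 5, 6, 4, 5, 3, 4, 2, 3, 0, 2, 1, 0]

theorem idcc : runM adjN mcc (astW ++ ([2] ++ (astW.reverse ++ ([2]).reverse))) = [] := by decide +kernel

/-- A derivation. -/
def mcd : List ℕ := [16, 17, 14, 16, 15, 13, 14, 12, 13, 10, 12, 11, 9, 10, 8, 9, 7, 8, 5, 7, 6, 4, 5, 3, 4, 1, 3, 2, 0, 1, 0]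

theorem idcd : runM adjN mcd (astW ++ ([3] ++ (astW.reverse ++ ([3]).reverse))) = [] := by decide +kernel

/-- A derivation. -/
def mce : List ℕ := [16, 17, 15, 16, 13, 15, 14, 11, 13, 12, 10, 11, 9, 10, 8, 9, 7, 8, 6, 7, 4, 6, 5, 2, 4, 3, 1, 2, 0, 1, 0]

theorem idce : runM adjN mce (astW ++ ([4] ++ (astW.reverse ++ ([4]).reverse))) = [] := by decide +kernel

/-- A derivation. -/
def mcg : List ℕ := [16, 17, 15, 16, 14, 15, 13, 14, 12, 13, 11, 12, 10, 11, 9, 10, 8, 9, 7, 8, 6, 7, 5, 6, 4, 5, 3, 4, 2, 3, 1, 2, 0, 1, 0]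

theorem idcg : runM adjN mcg (astW ++ ([6] ++ (astW.reverse ++ ([6]).reverse))) = [] := by decide +kernel

/-- A derivation. -/
def mch : List ℕ := [16, 17, 15, 16, 12, 13, 15, 11, 13, 14, 13, 12, 10, 11, 9, 10, 8, 9, 7, 8, 6, 7, 3, 4, 6, 2, 4, 5, 4, 3, 1, 2, 0, 1, 0]

theorem idch : runM adjN mch (astW ++ ([7] ++ (astW.reverse ++ ([7]).reverse))) = [] := by decide +kernel

/-- A derivation. -/
def mcw : List ℕ := [16, 17, 15, 16, 14, 15, 13, 14, 12, 13, 11, 12, 10, 11, 9, 10, 8, 9, 7, 8, 6, 7, 5, 6, 4, 5, 3, 4, 2, 3, 1, 2, 0, 1, 0]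

theorem idcw : runM adjN mcw (astW ++ ([9] ++ (astW.reverse ++ ([9]).reverse))) = [] := by decide +kernel

/-- A derivation. -/
def mqb : List ℕ := [16, 15, 17, 18, 19, 20, 14, 15, 17, 18, 13, 14, 15, 12, 13, 11, 9, 11, 13, 15, 16, 18, 20, 22, 8, 6, 8, 10, 11, 12, 13, 14, 15, 16, 17, 18, 9, 7, 5, 6, 7, 9, 11, 12, 13, 14, 15, 10, 8, 4, 5, 6, 7, 8, 10, 12, 3, 4, 5, 6, 2, 3, 0, 2, 3, 5, 6, 8, 9, 10, 12, 14, 15, 17, 18, 20, 21, 19, 21, 17, 16, 17, 19, 20, 14, 15, 13, 14, 15, 17, 18, 19, 11, 12, 13, 14, 9, 11, 12, 7, 9, 10, 11, 12, 14, 16, 17, 18, 5, 6, 7, 8, 10, 4, 5, 6, 8, 9, 10, 12, 13, 14, 16, 17, 2, 3, 4, 5, 6, 7, 1, 2, 3, 4, 5, 7, 8, 10, 11, 12, 13, 14, 16, 15, 15, 14, 13, 12, 11, 10, 9, 8, 7, 6, 5, 4, 3, 2, 1, 0, 0]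

theorem idqb : runM adjN mqb (astW ++ ([1] ++ (astW ++ ([1] ++ (astW ++ [1]))))) = [] := by decide +kernel

/-- A derivation. -/
def mqf : List ℕ := [16, 17, 15, 16, 14, 15, 12, 13, 14, 15, 7, 9, 10, 11, 12, 13, 14, 15, 16, 18, 6, 7, 9, 10, 11, 12, 13, 14, 16, 17, 5, 6, 7, 9, 10, 11, 12, 14, 15, 16, 3, 4, 5, 6, 7, 9, 10, 12, 13, 14, 15, 16, 8, 10, 11, 12, 13, 14, 15, 16, 17, 18, 17, 16, 15, 7, 8, 10, 11, 12, 13, 14, 13, 6, 7, 8, 10, 11, 12, 5, 6, 7, 8, 10, 11, 4, 5, 6, 7, 8, 10, 9, 8, 7, 6, 3, 4, 5, 4, 2, 3, 1, 2, 0, 1, 0]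

theorem idqf : runM adjN mqf (astW ++ ([5] ++ (astW ++ ([5] ++ (astW ++ [5]))))) = [] := by decide +kernel

/-- A derivation. -/
def mqi : List ℕ := [16, 17, 15, 16, 14, 15, 13, 14, 7, 9, 10, 11, 12, 13, 14, 15, 16, 18, 6, 7, 9, 10, 11, 12, 13, 14, 16, 17, 5, 6, 7, 9, 10, 11, 12, 14, 15, 16, 4, 5, 6, 7, 9, 10, 12, 13, 14, 15, 8, 10, 11, 12, 13, 14, 15, 16, 17, 18, 17, 16, 15, 14, 7, 8, 10, 11, 12, 13, 6, 7, 8, 10, 11, 12, 5, 6, 7, 8, 10, 11, 4, 5, 6, 7, 8, 10, 9, 8, 7, 6, 5, 3, 4, 2, 3, 1, 2, 0, 1, 0]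

theorem idqi : runM adjN mqi (astW ++ ([8] ++ (astW ++ ([8] ++ (astW ++ [8]))))) = [] := by decide +kernel

/-- A derivation. -/
def mW : List ℕ := [22, 23, 24, 22, 20, 22, 24, 25, 27, 29, 26, 21, 19, 21, 23, 24, 26, 28, 27, 22, 24, 25, 26, 16, 18, 19, 20, 15, 16, 18, 19, 20, 22, 23, 24, 25, 8, 10, 11, 12, 13, 7, 8, 10, 11, 12, 13, 15, 16, 17, 18, 6, 7, 8, 10, 11, 12, 13, 15, 16, 17, 18, 20, 21, 22, 23, 24, 22, 23, 22, 21, 20, 19, 18, 17, 16, 15, 14, 13, 12, 10, 11, 10, 9, 8, 7, 6, 5, 4, 3, 2, 1, 0]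

theorem idW : runM adjN mW (0 :: (astW ++ (d4W ++ d6W.reverse))) = [] := by decide +kernel

/-- A derivation. -/
def mcWa : List ℕ := [4, 5, 6, 7, 8, 4, 5, 6, 3, 4, 2, 0, 2, 4, 6, 8, 9, 11, 12, 13, 15, 16, 17, 18, 20, 21, 22, 23, 25, 26, 27, 28, 29, 28, 27, 26, 25, 24, 23, 22, 21, 20, 19, 18, 17, 16, 15, 14, 13, 12, 11, 10, 7, 9, 8, 5, 6, 7, 3, 4, 5, 6, 1, 2, 3, 4, 5, 3, 4, 3, 2, 1, 0, 0]

theorem idcWa : runM adjN mcWa (d6W ++ ([0] ++ (d6W.reverse ++ ([0]).reverse))) = [] := by decide +kernel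

/-- A derivation. -/
def mcWb : List ℕ := [10, 11, 12, 13, 14, 10, 11, 12, 9, 10, 8, 6, 8, 10, 12, 14, 15, 17, 18, 19, 21, 22, 23, 24, 26, 27, 28, 29, 28, 27, 26, 25, 24, 23, 22, 21, 20, 19, 18, 17, 16, 13, 15, 14, 11, 12, 13, 9, 10, 11, 12, 7, 8, 9, 10, 11, 9, 10, 9, 8, 7, 6, 5, 6, 4, 5, 3, 4, 2, 3, 0, 2, 1, 0]

theorem idcWb : runM adjN mcWb (d6W ++ ([1] ++ (d6W.reverse ++ ([1]).reverse))) = [] := by decide +kernel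

end Cfsg.Agent.Lib.TypeM22
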